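import Mathlib
import Cfsg.Prelude.Def_Characters
import Cfsg.Agent.Lib.Helper9.SLRoot5
import Cfsg.Agent.Lib.Helper1.SUMin.Defs

set_option autoImplicit false

/-!
# Minimal degree of `SL_n(q)` (S2332): definitions

`G_m = SL (Fin m) F`.  Inside `G_(m+1)`:
* `qrow w = 1 + e_0 (0,w)ᵀ` (`w : Fin m → F`) is the row group `Q ≅ F^m` (unipotent radical of the
  stabiliser of the point `<e_0>`);
* `emb : G_m →* G_(m+1)`, `h ↦ diag(1, h)`, normalises `Q`;
* `lamU ψ0 u` is the character `w ↦ ψ0 (u ⬝ᵥ w)` of `Q` and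
  `isoAvg qrow (lamU ψ0 u) χ` (from `SUMin.Defs`) is the `lamU`-isotypic part of `χ`.
-/

namespace Cfsg.Agent.Lib.Helper4.SLMin

open Matrix Cfsg Cfsg.Agent.H9SLRoot Cfsg.Agent.Lib.Helper1.SUMin
open scoped ComplexConjugate

universe u

variable {F : Type u} [Field F]

/-- `w ↦ (0, w)` -/
def ext0 {m : ℕ} (w : Fin m → F) : Fin (m + 1) → F := Fin.cons 0 w

/-- the element `1 + e_0 (0,w)ᵀ` of the row group -/
noncomputable def qrow {m : ℕ} (w : Fin m → F) : SpecialLinearGroup (Fin (m + 1)) F :=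
  tv (e 0) (ext0 w) 1

/-- the matrix `diag(1, h)` -/
def embMat {m : ℕ} (h : Matrix (Fin m) (Fin m) F) : Matrix (Fin (m + 1)) (Fin (m + 1)) F :=
  Matrix.of fun i j =>
    Fin.cases (Fin.cases (1 : F) (fun _ => 0) j) (fun i' => Fin.cases (0 : F) (fun j' => h i' j') j) i

theorem embMat_zero_zero {m : ℕ} (h : Matrix (Fin m) (Fin m) F) : embMat h 0 0 = 1 := rfl

theorem embMat_zero_succ {m : ℕ} (h : Matrix (Fin m) (Fin m) F) (j : Fin m) :
    embMat h 0 j.succ = 0 := rfl

theorem embMat_succ_zero {m : ℕ} (h : Matrix (Fin m) (Fin m) F) (i : Fin m) :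
    embMat h i.succ 0 = 0 := rfl

theorem embMat_succ_succ {m : ℕ} (h : Matrix (Fin m) (Fin m) F) (i j : Fin m) :
    embMat h i.succ j.succ = h i j := rfl

theorem embMat_mul {m : ℕ} (h h' : Matrix (Fin m) (Fin m) F) :
    embMat (h * h') = embMat h * embMat h' := by
  ext i j
  rw [Matrix.mul_apply, Fin.sum_univ_succ]
  refine Fin.cases ?_ (fun i' => ?_) i <;> refine Fin.cases ?_ (fun j' => ?_) j
  · simp [embMat_zero_zero, embMat_zero_succ, embMat_succ_zero]
  · simp [embMat_zero_zero, embMat_zero_succ]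
  · simp [embMat_zero_zero, embMat_succ_zero]
  · simp [embMat_succ_succ, embMat_zero_succ, embMat_succ_zero, Matrix.mul_apply]

theorem embMat_one {m : ℕ} : embMat (1 : Matrix (Fin m) (Fin m) F) = 1 := by
  ext i j
  refine Fin.cases ?_ (fun i' => ?_) i <;> refine Fin.cases ?_ (fun j' => ?_) j
  · simp [embMat_zero_zero]
  · rw [embMat_zero_succ, Matrix.one_apply_ne (Fin.succ_ne_zero j').symm]
  · rw [embMat_succ_zero, Matrix.one_apply_ne (Fin.succ_ne_zero i')]
  · rw [embMat_succ_succ, Matrix.one_apply, Matrix.one_apply]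
    simp [Fin.succ_inj]

theorem det_embMat {m : ℕ} (h : Matrix (Fin m) (Fin m) F) : (embMat h).det = h.det := by
  rw [Matrix.det_succ_row_zero, Fin.sum_univ_succ]
  have h0 : ∀ j : Fin m, (-1 : F) ^ (j.succ : ℕ) * embMat h 0 j.succ *
      ((embMat h).submatrix Fin.succ j.succ.succAbove).det = 0 := by
    intro j
    rw [embMat_zero_succ, mul_zero, zero_mul]
  rw [Finset.sum_eq_zero (fun j _ => h0 j), add_zero, embMat_zero_zero]
  have : (embMat h).submatrix Fin.succ (Fin.succAbove 0) = h := by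
    ext i j
    rw [Matrix.submatrix_apply, Fin.succAbove_zero, embMat_succ_succ]
  rw [this]
  simp

/-- the embedding `h ↦ diag(1, h)` of `SL_m` into `SL_(m+1)` -/
def emb (m : ℕ) : SpecialLinearGroup (Fin m) F →* SpecialLinearGroup (Fin (m + 1)) F where
  toFun h := ⟨embMat (h : Matrix (Fin m) (Fin m) F), by rw [det_embMat]; exact h.2⟩
  map_one' := Subtype.ext
    ((congrArg embMat (Matrix.SpecialLinearGroup.coe_one (n := Fin m) (R := F))).trans embMat_one)
  map_mul' a b := Subtype.ext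
    ((congrArg embMat (Matrix.SpecialLinearGroup.coe_mul a b)).trans (embMat_mul _ _))

theorem emb_coe {m : ℕ} (h : SpecialLinearGroup (Fin m) F) :
    ((emb m h : SpecialLinearGroup (Fin (m + 1)) F) : Matrix (Fin (m + 1)) (Fin (m + 1)) F) =
      embMat (h : Matrix (Fin m) (Fin m) F) := rfl

/-- the additive character `w ↦ ψ0 (u ⬝ᵥ w)` of `F^m` -/
def lamU {m : ℕ} (ψ0 : AddChar F ℂ) (u : Fin m → F) : AddChar (Fin m → F) ℂ where
  toFun w := ψ0 (u ⬝ᵥ w)
  map_zero_eq_one' := by rw [dotProduct_zero, AddChar.map_zero_eq_one]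
  map_add_eq_mul' a b := by rw [dotProduct_add, AddChar.map_add_eq_mul]

theorem lamU_apply {m : ℕ} (ψ0 : AddChar F ℂ) (u w : Fin m → F) :
    lamU ψ0 u w = ψ0 (u ⬝ᵥ w) := rfl

/-- the standard transvection `1 + t e_0 e_1ᵀ` of `SL (Fin (m+1)) F` (trivial when `m = 0`) -/
noncomputable def tauE (m : ℕ) (t : F) : SpecialLinearGroup (Fin (m + 1)) F :=
  tv (e 0) (e 1) t

section stab
variable {G : Type u} [Group G] {A : Type u} [AddCommGroup A]

/-- the elements of `G` normalising the parametrised subgroup `ζ A` and fixing the character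
`lam` of it -/
def invStab (ζ : A → G) (lam : AddChar A ℂ) : Subgroup G where
  carrier := {g | ∃ τ : A ≃+ A, (∀ a, g * ζ a * g⁻¹ = ζ (τ a)) ∧ ∀ a, lam (τ a) = lam a}
  one_mem' := ⟨AddEquiv.refl A, fun a => by simp, fun a => rfl⟩
  mul_mem' := by
    rintro g h ⟨τ, hτ, hl⟩ ⟨σ, hσ, hl'⟩
    refine ⟨σ.trans τ, fun a => ?_, fun a => ?_⟩
    · have : g * h * ζ a * (g * h)⁻¹ = g * (h * ζ a * h⁻¹) * g⁻¹ := by group
      rw [this, hσ, hτ]
      rfl
    · show lam (τ (σ a)) = lam a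
      rw [hl, hl']
  inv_mem' := by
    rintro g ⟨τ, hτ, hl⟩
    refine ⟨τ.symm, fun a => ?_, fun a => ?_⟩
    · have h1 := hτ (τ.symm a)
      rw [AddEquiv.apply_symm_apply] at h1
      rw [← h1]
      group
    · have := hl (τ.symm a)
      rw [AddEquiv.apply_symm_apply] at this
      exact this.symm

theorem mem_invStab {ζ : A → G} {lam : AddChar A ℂ} {g : G} :
    g ∈ invStab ζ lam ↔
      ∃ τ : A ≃+ A, (∀ a, g * ζ a * g⁻¹ = ζ (τ a)) ∧ ∀ a, lam (τ a) = lam a := Iff.rfl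

end stab

/-- the permutation character of `SL_n(F)` on the nonzero vectors (the form used in S2336) -/
noncomputable def permVec [Fintype F] [DecidableEq F] (n : ℕ) : SpecialLinearGroup (Fin n) F → ℂ :=
  fun g => (Nat.card {v : Fin n → F // v ≠ 0 ∧ (g : Matrix (Fin n) (Fin n) F) *ᵥ v = v} : ℂ)

/-- the target bound `(q^n - q)/(q - 1)` -/
def bnd (q n : ℕ) : ℕ := (q ^ n - q) / (q - 1)

/-- the exceptional pairs -/
def IsExc (n q : ℕ) : Prop := (n, q) = (3, 2) ∨ (n, q) = (3, 4) ∨ (n, q) = (4, 2) ∨ (n, q) = (4, 3)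

end Cfsg.Agent.Lib.Helper4.SLMin
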