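import Mathlib
import Cfsg.Prelude.Def_Characters
import Cfsg.Agent.Lib.Helper4.SLMin.Defs
import Cfsg.Agent.Lib.Helper4.Characters
import Cfsg.Agent.Lib.Helper3.SLMin_A
import Cfsg.Agent.Lib.Helper6.SLMin_B
import Cfsg.Agent.Lib.Lead.SLMin_C
import Cfsg.Agent.Lib.Helper6.SLMin_D1
import Cfsg.Agent.Lib.Helper3.SLMin_D2
import Cfsg.Agent.Lib.Helper1.CharFound7
import Cfsg.Agent.Lib.Helper1.SiegelW
import Cfsg.Agent.Lib.Helper1.CharInt
import Cfsg.Agent.Lib.Helper1.SLMin_N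
import Cfsg.Agent.Lib.Helper1.SLMin_T

set_option autoImplicit false

/-!
# S2332: PK-E and PK-D3 (the key lemma), assembled from PK-A, PK-B, PK-C, PK-D1, PK-D2
-/

namespace Cfsg.Agent.Lib.Helper4.SLMin

open Matrix Cfsg Cfsg.Agent.H9SLRoot Cfsg.Agent.Lib.Helper1.SUMin
open scoped ComplexConjugate

universe u

variable {F : Type u} [Field F] [Fintype F] [DecidableEq F]

local notation "q" => Fintype.card F

section PKE
variable {m : ℕ}

theorem psi_isCharacter (ψ0 : AddChar F ℂ) {χ : SpecialLinearGroup (Fin (m + 1)) F → ℂ}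
    (hχ : IsCharacter (SpecialLinearGroup (Fin (m + 1)) F) χ) :
    IsCharacter (SpecialLinearGroup (Fin m) F)
      (fun h => isoAvg qrow (lamU ψ0 (0 : Fin m → F)) χ (emb m h)) := by
  have h1 := isCharacter_isoAvg_invStab hχ (qrow : (Fin m → F) → _) qrow_add
    (lamU ψ0 (0 : Fin m → F))
  let φ : SpecialLinearGroup (Fin m) F →*
      invStab (qrow : (Fin m → F) → SpecialLinearGroup (Fin (m + 1)) F) (lamU ψ0 0) :=
    { toFun := fun h => ⟨emb m h, emb_mem_invStab ψ0 0 h (Matrix.mulVec_zero _)⟩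
      map_one' := Subtype.ext (map_one _)
      map_mul' := fun a b => Subtype.ext (map_mul _ a b) }
  exact Cfsg.Agent.Lib.Helper1.isCharacter_comp_hom h1 φ

end PKE

section PKE2
variable {m : ℕ}

theorem asm_tauE_add (t t' : F) : tauE m (t + t') = tauE m t * tauE m t' := by
  unfold tauE
  rw [tv_mul]

/-- E3: the multiplicity of the trivial character of the root group is a natural number -/
theorem avg_root_nat {ψ : SpecialLinearGroup (Fin (m + 1)) F → ℂ}
    (hψ : IsCharacter (SpecialLinearGroup (Fin (m + 1)) F) ψ) :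
    ∃ k : ℕ, (q : ℂ)⁻¹ * ∑ t : F, ψ (tauE m t) = k := by
  obtain ⟨k, hk⟩ := sw_mult_nat hψ (tauE m) asm_tauE_add (1 : AddChar F ℂ)
  refine ⟨k, ?_⟩
  rw [← hk, mu_def, theta_zero, isoAvg_apply]
  congr 1
  apply Finset.sum_congr rfl
  intro t _
  rw [AddChar.one_apply, map_one, one_mul, mul_one]

end PKE2

section PKD3
variable {m : ℕ}

theorem asm_tv_mul_same_axis {n : ℕ} {x x' φ : Fin n → F} (hx : φ ⬝ᵥ x = 0) (hx' : φ ⬝ᵥ x' = 0)
    (a b : F) : tv x φ a * tv x' φ b = tv (a • x + b • x') φ 1 := by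
  have h3 : φ ⬝ᵥ (a • x + b • x') = 0 := by
    rw [dotProduct_add, dotProduct_smul, dotProduct_smul, hx, hx', smul_zero, smul_zero, add_zero]
  apply sl_ext
  intro v
  rw [coe_mul_mulVec, tv_mulVec hx', tv_mulVec h3, Matrix.mulVec_add, Matrix.mulVec_smul,
    tv_mulVec hx, tv_mulVec hx, hx', mul_zero, zero_smul, add_zero, one_mul]
  rw [mul_comm a, mul_comm b, add_assoc, smul_add, smul_smul, smul_smul]

theorem asm_card_fix (m : ℕ) :
    (Finset.univ.filter fun u : Fin (m + 2) → F => u 1 = 0).card = q ^ (m + 1) := by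
  classical
  rw [← Fintype.card_subtype]
  let e : {u : Fin (m + 2) → F // u 1 = 0} ≃ (Fin (m + 1) → F) :=
    { toFun := fun u => Fin.removeNth 1 u.1
      invFun := fun w => ⟨Fin.insertNth 1 (0 : F) w, by simp⟩
      left_inv := by
        rintro ⟨u, hu⟩
        apply Subtype.ext
        show Fin.insertNth 1 (0 : F) (Fin.removeNth 1 u) = u
        rw [← hu]
        exact Fin.insertNth_self_removeNth 1 u
      right_inv := by
        intro w
        show Fin.removeNth 1 (Fin.insertNth (α := fun _ => F) 1 (0 : F) w) = w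
        exact Fin.removeNth_insertNth (α := fun _ => F) 1 0 w }
  rw [Fintype.card_congr e, Fintype.card_fun, Fintype.card_fin]

/-- D3 (key lemma) -/
theorem key (hm : 1 ≤ m) (hex : ¬ IsExc (m + 2) q) (ψ0 : AddChar F ℂ) (hψ0 : ψ0 ≠ 1)
    {χ : SpecialLinearGroup (Fin (m + 2)) F → ℂ}
    (hχ : IsCharacter (SpecialLinearGroup (Fin (m + 2)) F) χ)
    (he : χ 1 - χ (tauE (m + 1) 1) = (q : ℂ) ^ (m + 1)) (t : F) (ht : t ≠ 0) :
    isoAvg qrow (lamU ψ0 (0 : Fin (m + 1) → F)) χ (emb (m + 1) (tauE m t)) =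
      χ (tauE (m + 1) 1) + 1 - (q : ℂ) ^ m := by
  classical
  obtain ⟨m, rfl⟩ : ∃ m', m = m' + 1 := ⟨m - 1, by omega⟩
  have hcf := Cfsg.Agent.Lib.Helper4.isClassFunction_of_isCharacter hχ
  have hq0 : (q : ℂ) ≠ 0 := Nat.cast_ne_zero.2 Fintype.card_ne_zero
  obtain ⟨ee, ff, h1, hc, hf0, hfe⟩ := exists_ef hm ψ0 hψ0 hχ
  -- `e = 1`
  have he1 : (ee : ℂ) = 1 := by
    have h2 : (ee : ℂ) * (q : ℂ) ^ (m + 1 + 1) = (q : ℂ) ^ (m + 1 + 1) := by
      have := he
      rw [h1, hc] at this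
      linear_combination this
    have h3 : (q : ℂ) ^ (m + 1 + 1) ≠ 0 := pow_ne_zero _ hq0
    exact mul_right_cancel₀ h3 (by rw [h2, one_mul])
  set y : SpecialLinearGroup (Fin (m + 1 + 2)) F := emb (m + 1 + 1) (tauE (m + 1) t) with hy
  have hy' : y = tv (e 1) (e 2) t := by
    rw [hy]
    unfold tauE
    rw [emb_tv, ext0_e, ext0_e, Fin.succ_zero_eq_one, Fin.succ_one_eq_two]
  have h20 : (2 : Fin (m + 1 + 2)) ≠ 0 := by
    intro h
    have := congrArg Fin.val h
    rw [Fin.val_two, Fin.val_zero] at this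
    omega
  have h21 : (2 : Fin (m + 1 + 2)) ≠ 1 := by
    intro h
    have := congrArg Fin.val h
    rw [Fin.val_two, Fin.val_one] at this
    omega
  -- the Fourier identity
  have hD1 := sum_fix_isoAvg hm ψ0 hψ0 χ y
  have hterm : ∀ s : F, χ (qrow (s • (e 1 : Fin (m + 1 + 1) → F)) * y) = χ (tauE (m + 1 + 1) 1) := by
    intro s
    rw [qrow_smul_e, Fin.succ_one_eq_two, hy',
      asm_tv_mul_same_axis (e_dot_e_ne h20)
        (e_dot_e_ne h21)]
    apply char_tv_eq hm hcf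
    · intro h0
      have := congrFun h0 1
      simp [e] at this
      exact ht this
    · exact e_ne_zero 2
    · rw [dotProduct_add, dotProduct_smul, dotProduct_smul,
        e_dot_e_ne h20,
        e_dot_e_ne h21, smul_zero, smul_zero, add_zero]
  rw [Finset.sum_congr rfl (fun s _ => hterm s), Finset.sum_const, Finset.card_univ, nsmul_eq_mul,
    ← mul_assoc, inv_mul_cancel₀ hq0, one_mul] at hD1
  -- split off `u = 0`
  have h0mem : (0 : Fin (m + 1 + 1) → F) ∈
      (Finset.univ.filter fun u : Fin (m + 1 + 1) → F => u 1 = 0) := by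
    simp
  rw [← Finset.add_sum_erase _ _ h0mem] at hD1
  have hone : ∀ u ∈ (Finset.univ.filter fun u : Fin (m + 1 + 1) → F => u 1 = 0).erase 0,
      isoAvg qrow (lamU ψ0 u) χ y = 1 := by
    intro u hu
    rw [Finset.mem_erase, Finset.mem_filter] at hu
    obtain ⟨a, b, ha, hb, hab⟩ := exists_comm hm hex ψ0 u hu.1 hu.2.2 t
    rw [hy, ← hab]
    apply isoAvg_commutator_eq_one hχ qrow qrow_add (lamU ψ0 u) _ ha hb
    rw [hfe u hu.1, he1]
  rw [Finset.sum_congr rfl hone, Finset.sum_const, Finset.card_erase_of_mem h0mem, asm_card_fix,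
    nsmul_eq_mul, mul_one] at hD1
  have hq1 : 1 ≤ q ^ (m + 1) := Nat.one_le_pow _ _ Fintype.card_pos
  rw [Nat.cast_sub hq1] at hD1
  push_cast at hD1
  rw [← hD1]
  ring

end PKD3

theorem asm_two_le_q : 2 ≤ q := Fintype.one_lt_card

theorem asm_tauE_zero (m : ℕ) : tauE m (0 : F) = 1 := by
  unfold tauE
  rw [tv_zero]

/-- the divisibility coming from the class sum of the transvections, for `e = 1` -/
theorem asm_dvd_of_tv_integral {m : ℕ} (hm : 1 ≤ m) {χ : SpecialLinearGroup (Fin (m + 2)) F → ℂ}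
    (hχ : IsIrrCharacter (SpecialLinearGroup (Fin (m + 2)) F) χ) {f : ℕ} (hf : 1 ≤ f)
    (h1 : χ 1 = (f : ℂ) + ((q : ℂ) ^ (m + 1) - 1)) (hc : χ (tauE (m + 1) 1) = (f : ℂ) - 1) :
    ∃ N : ℕ, N * (q - 1) = (q ^ (m + 2) - 1) * (q ^ (m + 1) - 1) ∧
      (f + q ^ (m + 1) - 1) ∣ N * (f - 1) := by
  obtain ⟨N, hN, hint⟩ := tv_integral hm hχ
  refine ⟨N, hN, ?_⟩
  have hq1 : 1 ≤ q ^ (m + 1) := Nat.one_le_pow _ _ Fintype.card_pos
  have hb : f + q ^ (m + 1) - 1 ≠ 0 := by omega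
  apply Cfsg.Agent.Lib.Helper1.nat_dvd_of_isIntegral_div _ _ hb
  have e1 : ((N * (f - 1) : ℕ) : ℂ) = (N : ℂ) * χ (tauE (m + 1) 1) := by
    rw [hc, Nat.cast_mul, Nat.cast_sub hf, Nat.cast_one]
  have e2 : ((f + q ^ (m + 1) - 1 : ℕ) : ℂ) = χ 1 := by
    rw [h1, Nat.cast_sub (by omega), Nat.cast_add, Nat.cast_pow, Nat.cast_one]
    ring
  rw [e1, e2]
  exact hint


end Cfsg.Agent.Lib.Helper4.SLMin
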