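import Mathlib
import Cfsg.Prelude.Def_Characters
import Cfsg.Agent.Lib.Helper4.SLMin.Key
import Cfsg.Agent.Lib.Helper1.CharFound3
import Cfsg.Agent.Lib.Helper1.CharFound6
import Cfsg.Agent.Lib.Helper5.PermVec2
import Cfsg.Agent.Lib.Helper5.SLMin_AH2
import Cfsg.Agent.Lib.Helper9.SLMin_AH4
import Cfsg.Agent.Lib.Helper9.SLMin_AH1

set_option autoImplicit false

/-!
# S2332: decomposition of the character of `SL_(n-1)` on the `Q`-fixed points when `e = 1`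
-/

namespace Cfsg.Agent.Lib.Helper4.SLMin

open Matrix Cfsg Cfsg.Agent.H9SLRoot Cfsg.Agent.Lib.Helper1.SUMin
open scoped ComplexConjugate

universe u

variable {F : Type u} [Field F] [Fintype F] [DecidableEq F]

local notation "q" => Fintype.card F

section lin
variable {k : ℕ}

/-- a linear character of `SL_(k+2)`, `k ≥ 1`, is trivial -/
theorem asm_linear_eq_one (hk : 1 ≤ k) {θ : SpecialLinearGroup (Fin (k + 2)) F → ℂ}
    (hθ : IsIrrCharacter (SpecialLinearGroup (Fin (k + 2)) F) θ) (h1 : θ 1 = 1) :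
    ∀ g, θ g = 1 := by
  have hcf := Cfsg.Agent.Lib.Helper4.isClassFunction_of_isCharacter
    (Cfsg.Agent.Lib.Helper4.isCharacter_of_irr hθ)
  let K : Subgroup (SpecialLinearGroup (Fin (k + 2)) F) :=
    { carrier := {g | θ g = 1}
      one_mem' := h1
      mul_mem' := by
        intro a b ha hb
        show θ (a * b) = 1
        rw [PkC.linear_mul hθ h1, ha, hb, mul_one]
      inv_mem' := by
        intro a ha
        show θ a⁻¹ = 1
        have h2 : θ a * θ a⁻¹ = 1 := by rw [← PkC.linear_mul hθ h1, mul_inv_cancel, h1]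
        rw [ha, one_mul] at h2
        exact h2 }
  haveI : K.Normal := ⟨fun n hn g => by
    show θ (g * n * g⁻¹) = 1
    rw [hcf n g]
    exact hn⟩
  have hK : K = ⊤ := PkC.normal_eq_top hk K (linear_tv hk hθ h1)
  intro g
  have : g ∈ K := by rw [hK]; exact Subgroup.mem_top g
  exact this

end lin

section asm_decomp
variable {k : ℕ}

/-- when `ψ 1 - ψ τ = q^(k+1)` (the value for `e = 1`), `ψ` is an irreducible nonlinear
character with `e = 1` plus a multiple of the trivial character -/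
theorem asm_decomp (hk : 1 ≤ k) (ψ0 : AddChar F ℂ) (hψ0 : ψ0 ≠ 1)
    {ψ : SpecialLinearGroup (Fin (k + 2)) F → ℂ}
    (hψ : IsCharacter (SpecialLinearGroup (Fin (k + 2)) F) ψ)
    (hd : ψ 1 - ψ (tauE (k + 1) 1) = (q : ℂ) ^ (k + 1)) :
    ∃ (θ : SpecialLinearGroup (Fin (k + 2)) F → ℂ) (t0 : ℕ),
      IsIrrCharacter (SpecialLinearGroup (Fin (k + 2)) F) θ ∧ θ 1 ≠ 1 ∧
      θ 1 - θ (tauE (k + 1) 1) = (q : ℂ) ^ (k + 1) ∧
      classInner ψ (fun _ => 1) = t0 ∧ ∀ g, ψ g = θ g + t0 := by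
  classical
  haveI : Fintype (IrrCharacter (SpecialLinearGroup (Fin (k + 2)) F)) := Fintype.ofFinite _
  have hq0 : (q : ℂ) ≠ 0 := Nat.cast_ne_zero.2 Fintype.card_ne_zero
  have hqk : (q : ℂ) ^ (k + 1) ≠ 0 := pow_ne_zero _ hq0
  have hcf := Cfsg.Agent.Lib.Helper4.isClassFunction_of_isCharacter hψ
  have hexp := Cfsg.Agent.Lib.Helper1.class_function_expansion ψ hcf
  choose n hn using fun θ : IrrCharacter (SpecialLinearGroup (Fin (k + 2)) F) =>
    Cfsg.Agent.Lib.Helper1.classInner_char_irr_nat hψ θ.2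
  have hval : ∀ g, ψ g = ∑ θ : IrrCharacter (SpecialLinearGroup (Fin (k + 2)) F),
      (n θ : ℂ) * (θ : SpecialLinearGroup (Fin (k + 2)) F → ℂ) g := by
    intro g
    conv_lhs => rw [hexp]
    rw [Finset.sum_apply]
    apply Finset.sum_congr rfl
    intro θ _
    rw [Pi.smul_apply, smul_eq_mul, hn]
  choose E Fv hE1 hEc hE3 hE4 using fun θ : IrrCharacter (SpecialLinearGroup (Fin (k + 2)) F) =>
    exists_ef hk ψ0 hψ0 (Cfsg.Agent.Lib.Helper4.isCharacter_of_irr θ.2)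
  have hdθ : ∀ θ : IrrCharacter (SpecialLinearGroup (Fin (k + 2)) F),
      (θ : SpecialLinearGroup (Fin (k + 2)) F → ℂ) 1 -
        (θ : SpecialLinearGroup (Fin (k + 2)) F → ℂ) (tauE (k + 1) 1) =
        (E θ : ℂ) * (q : ℂ) ^ (k + 1) := by
    intro θ
    rw [hE1, hEc]
    ring
  have hsum : ∑ θ : IrrCharacter (SpecialLinearGroup (Fin (k + 2)) F), n θ * E θ = 1 := by
    have h2 : ((∑ θ : IrrCharacter (SpecialLinearGroup (Fin (k + 2)) F), n θ * E θ : ℕ) : ℂ) *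
        (q : ℂ) ^ (k + 1) = 1 * (q : ℂ) ^ (k + 1) := by
      have h6 : ∀ θ : IrrCharacter (SpecialLinearGroup (Fin (k + 2)) F),
          ((n θ * E θ : ℕ) : ℂ) * (q : ℂ) ^ (k + 1) =
            (n θ : ℂ) * (θ : SpecialLinearGroup (Fin (k + 2)) F → ℂ) 1 -
            (n θ : ℂ) * (θ : SpecialLinearGroup (Fin (k + 2)) F → ℂ) (tauE (k + 1) 1) := by
        intro θ
        rw [← mul_sub, hdθ, Nat.cast_mul]
        ring
      rw [Nat.cast_sum, Finset.sum_mul, Finset.sum_congr rfl (fun θ _ => h6 θ),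
        Finset.sum_sub_distrib, ← hval, ← hval, hd, one_mul]
    have h3 := mul_right_cancel₀ hqk h2
    exact_mod_cast h3
  obtain ⟨θ1, hθ1⟩ : ∃ θ1, n θ1 * E θ1 ≠ 0 := by
    by_contra hcon
    push Not at hcon
    rw [Finset.sum_eq_zero (fun θ _ => hcon θ)] at hsum
    exact zero_ne_one hsum
  have hsplit := Finset.add_sum_erase Finset.univ (fun θ => n θ * E θ) (Finset.mem_univ θ1)
  rw [hsum] at hsplit
  have hθ1one : n θ1 * E θ1 = 1 := by
    have : 1 ≤ n θ1 * E θ1 := Nat.one_le_iff_ne_zero.2 hθ1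
    omega
  have hrest : ∑ θ ∈ Finset.univ.erase θ1, n θ * E θ = 0 := by omega
  have hrest' : ∀ θ, θ ≠ θ1 → n θ * E θ = 0 := by
    intro θ hne
    exact (Finset.sum_eq_zero_iff.1 hrest) θ (Finset.mem_erase.2 ⟨hne, Finset.mem_univ _⟩)
  have hn1 : n θ1 = 1 := Nat.dvd_one.1 (Dvd.intro _ hθ1one)
  have hE1' : E θ1 = 1 := Nat.dvd_one.1 (Dvd.intro_left _ hθ1one)
  have hθ1nl : (θ1 : SpecialLinearGroup (Fin (k + 2)) F → ℂ) 1 ≠ 1 := by
    intro h
    have h4 := hdθ θ1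
    rw [linear_tv hk θ1.2 h, h, sub_self, hE1', Nat.cast_one, one_mul] at h4
    exact hqk h4.symm
  set triv : IrrCharacter (SpecialLinearGroup (Fin (k + 2)) F) :=
    ⟨fun _ => 1, Cfsg.Agent.Lib.Helper5.PermVec.isIrr_one⟩ with htriv
  have hother : ∀ θ, θ ≠ θ1 → θ ≠ triv → n θ = 0 := by
    intro θ hne hnt
    by_contra hn0
    have hE0 : E θ = 0 := by
      rcases Nat.mul_eq_zero.1 (hrest' θ hne) with h | h
      · exact absurd h hn0
      · exact h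
    have h5 := hdθ θ
    rw [hE0, Nat.cast_zero, zero_mul, sub_eq_zero] at h5
    have hlin : (θ : SpecialLinearGroup (Fin (k + 2)) F → ℂ) 1 = 1 := by
      by_contra hnl
      exact tv_not_in_kernel hk θ.2 hnl h5.symm
    apply hnt
    apply Subtype.ext
    funext g
    exact asm_linear_eq_one hk θ.2 hlin g
  have hne1 : θ1 ≠ triv := by
    intro h
    apply hθ1nl
    rw [h]
  refine ⟨θ1, n triv, θ1.2, hθ1nl, ?_, hn triv, ?_⟩
  · rw [hdθ, hE1', Nat.cast_one, one_mul]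
  · intro g
    rw [hval g, Finset.sum_eq_add θ1 triv hne1]
    · rw [hn1, Nat.cast_one, one_mul, mul_one]
    · intro θ _ hθ
      rw [hother θ hθ.1 hθ.2, Nat.cast_zero, zero_mul]
    · intro h
      exact absurd (Finset.mem_univ _) h
    · intro h
      exact absurd (Finset.mem_univ _) h

end asm_decomp

section two
variable {k : ℕ}

theorem asm_classInner_const_one {G : Type u} [Group G] [Fintype G] (c : ℂ) :
    classInner (fun _ : G => c) (fun _ => 1) = c := by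
  unfold classInner
  rw [Finset.sum_const, Finset.card_univ, nsmul_eq_mul, map_one, mul_one,
    Nat.card_eq_fintype_card, ← mul_assoc, inv_mul_cancel₀, one_mul]
  exact Nat.cast_ne_zero.2 Fintype.card_ne_zero

/-- the `f_1` dichotomy -/
theorem asm_f1_dichotomy (hk : 1 ≤ k) (ψ0 : AddChar F ℂ) (hψ0 : ψ0 ≠ 1)
    {θ : SpecialLinearGroup (Fin (k + 2)) F → ℂ}
    (hθ : IsIrrCharacter (SpecialLinearGroup (Fin (k + 2)) F) θ) (hθ1 : θ 1 ≠ 1)
    (hd : θ 1 - θ (tauE (k + 1) 1) = (q : ℂ) ^ (k + 1)) :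
    ∃ f1 : ℕ, θ 1 = (f1 : ℂ) + ((q : ℂ) ^ (k + 1) - 1) ∧
      IsCharacter (SpecialLinearGroup (Fin (k + 1)) F)
        (fun h => isoAvg qrow (lamU ψ0 (0 : Fin (k + 1) → F)) θ (emb (k + 1) h)) ∧
      isoAvg qrow (lamU ψ0 (0 : Fin (k + 1) → F)) θ (emb (k + 1) 1) = f1 ∧
      (f1 ≤ 1 ∨ ∃ t : F,
        isoAvg qrow (lamU ψ0 (0 : Fin (k + 1) → F)) θ (emb (k + 1) (tauE k t)) ≠ f1) := by
  have hθc := Cfsg.Agent.Lib.Helper4.isCharacter_of_irr hθ
  have hq0 : (q : ℂ) ≠ 0 := Nat.cast_ne_zero.2 Fintype.card_ne_zero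
  have hqk : (q : ℂ) ^ (k + 1) ≠ 0 := pow_ne_zero _ hq0
  obtain ⟨E, Fv, hE1, hEc, hE3, -⟩ := exists_ef hk ψ0 hψ0 hθc
  have hEone : (E : ℂ) = 1 := by
    have h2 : (E : ℂ) * (q : ℂ) ^ (k + 1) = 1 * (q : ℂ) ^ (k + 1) := by
      have := hd
      rw [hE1, hEc] at this
      linear_combination this
    exact mul_right_cancel₀ hqk h2
  have hψ'' := psi_isCharacter ψ0 hθc
  have hψ1 : isoAvg qrow (lamU ψ0 (0 : Fin (k + 1) → F)) θ (emb (k + 1) 1) = Fv := by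
    rw [map_one]
    exact hE3
  refine ⟨Fv, ?_, hψ'', hψ1, ?_⟩
  · rw [hE1, hEone, one_mul]
  · by_cases hall : ∀ t : F,
        isoAvg qrow (lamU ψ0 (0 : Fin (k + 1) → F)) θ (emb (k + 1) (tauE k t)) = Fv
    · left
      obtain ⟨k', rfl⟩ : ∃ k', k = k' + 1 := ⟨k - 1, by omega⟩
      have hconst := const_of_root hψ'' (fun t => by rw [hall t, hψ1])
      have h3 : (fun h : SpecialLinearGroup (Fin (k' + 1 + 1)) F =>
          isoAvg qrow (lamU ψ0 (0 : Fin (k' + 1 + 1) → F)) θ (emb (k' + 1 + 1) h)) =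
          fun _ => (Fv : ℂ) := by
        funext g
        rw [hconst g, hψ1]
      have h4 := inner_psi_one (m := k' + 1 + 1) (by omega) ψ0 hθc
      rw [h3, asm_classInner_const_one] at h4
      rcases inner_permVec (k' + 1 + 2) (by omega) hθ hθ1 with h5 | ⟨h5, -⟩
      · rw [h5] at h4
        have : Fv = 0 := by exact_mod_cast h4
        omega
      · rw [h5] at h4
        have : Fv = 1 := by exact_mod_cast h4
        omega
    · right
      push Not at hall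
      exact hall

end two

section core
variable {k : ℕ}

/-- the two-step analysis (used for the three ad hoc cases) -/
theorem asm_adhoc_core (hk : 1 ≤ k) (ψ0 : AddChar F ℂ) (hψ0 : ψ0 ≠ 1) (hex : ¬ IsExc (k + 1 + 2) q)
    {χ : SpecialLinearGroup (Fin (k + 1 + 2)) F → ℂ}
    (hχ : IsIrrCharacter (SpecialLinearGroup (Fin (k + 1 + 2)) F) χ) (hχ1 : χ 1 ≠ 1) :
    (∃ k0 : ℕ, χ 1 = k0 ∧ bnd q (k + 1 + 2) ≤ k0) ∨
    ∃ f1 N : ℕ, χ 1 = ((f1 + (q ^ (k + 1) - 1) + (q ^ (k + 1 + 1) - 1) : ℕ) : ℂ) ∧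
      N * (q - 1) = (q ^ (k + 1 + 2) - 1) * (q ^ (k + 1 + 1) - 1) ∧
      (f1 + (q ^ (k + 1) - 1) + q ^ (k + 1 + 1) - 1) ∣ N * (f1 + (q ^ (k + 1) - 1) - 1) ∧
      (f1 ≤ 1 ∨ ∃ ψ'' : SpecialLinearGroup (Fin (k + 1)) F → ℂ,
        IsCharacter (SpecialLinearGroup (Fin (k + 1)) F) ψ'' ∧ ψ'' 1 = f1 ∧
        ∃ t : F, ψ'' (tauE k t) ≠ f1) := by
  have hm : 1 ≤ k + 1 := by omega
  have hχc := Cfsg.Agent.Lib.Helper4.isCharacter_of_irr hχ
  obtain ⟨ee, ff, h1, hc, hf0, hfe⟩ := exists_ef hm ψ0 hψ0 hχc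
  have hq2 := asm_two_le_q (F := F)
  have hq0 : (q : ℂ) ≠ 0 := Nat.cast_ne_zero.2 Fintype.card_ne_zero
  have hq1 : 1 ≤ q ^ (k + 1 + 1) := Nat.one_le_pow _ _ Fintype.card_pos
  have hq1' : 2 ≤ q ^ (k + 1) := by
    calc 2 ≤ q := hq2
      _ = q ^ 1 := (pow_one _).symm
      _ ≤ q ^ (k + 1) := Nat.pow_le_pow_right Fintype.card_pos (by omega)
  have hee : ee ≠ 0 := by
    rintro rfl
    apply tv_not_in_kernel hm hχ hχ1
    rw [hc, h1]
    simp
  have hk0 : χ 1 = ((ff + ee * (q ^ (k + 1 + 1) - 1) : ℕ) : ℂ) := by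
    rw [h1, Nat.cast_add, Nat.cast_mul, Nat.cast_sub hq1, Nat.cast_pow, Nat.cast_one]
  by_cases he2 : 2 ≤ ee
  · left
    refine ⟨_, hk0, ?_⟩
    have h3 := bnd_le_two_mul hq2 (n := k + 1 + 1) (by omega)
    calc bnd q (k + 1 + 2) ≤ 2 * (q ^ (k + 1 + 1) - 1) := h3
      _ ≤ ee * (q ^ (k + 1 + 1) - 1) := Nat.mul_le_mul_right _ he2
      _ ≤ ff + ee * (q ^ (k + 1 + 1) - 1) := Nat.le_add_left _ _
  have he1 : ee = 1 := by omega
  subst he1
  rw [Nat.cast_one, one_mul] at h1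
  rw [Nat.cast_one] at hc
  rw [one_mul] at hk0
  have he : χ 1 - χ (tauE (k + 1 + 1) 1) = (q : ℂ) ^ (k + 1 + 1) := by rw [h1, hc]; ring
  set ψ : SpecialLinearGroup (Fin (k + 1 + 1)) F → ℂ :=
    fun h => isoAvg qrow (lamU ψ0 (0 : Fin (k + 1 + 1) → F)) χ (emb (k + 1 + 1) h) with hψdef
  have hψ : IsCharacter (SpecialLinearGroup (Fin (k + 1 + 1)) F) ψ := psi_isCharacter ψ0 hχc
  have hψ1 : ψ 1 = ff := by
    simp only [hψdef, map_one]
    exact hf0
  have hψt : ψ (tauE (k + 1) 1) = (ff : ℂ) - (q : ℂ) ^ (k + 1) := by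
    show isoAvg qrow (lamU ψ0 (0 : Fin (k + 1 + 1) → F)) χ (emb (k + 1 + 1) (tauE (k + 1) 1)) = _
    rw [key hm hex ψ0 hψ0 hχc he 1 one_ne_zero, hc]
    ring
  have hdψ : ψ 1 - ψ (tauE (k + 1) 1) = (q : ℂ) ^ (k + 1) := by rw [hψ1, hψt]; ring
  obtain ⟨θ, t0, hθ, hθ1, hdθ, ht0, hψθ⟩ := asm_decomp hk ψ0 hψ0 hψ hdψ
  have hinner := inner_psi_one (m := k + 1 + 1) (by omega) ψ0 hχc
  rw [show (fun h : SpecialLinearGroup (Fin (k + 1 + 1)) F =>
      isoAvg qrow (lamU ψ0 (0 : Fin (k + 1 + 1) → F)) χ (emb (k + 1 + 1) h)) = ψ from rfl, ht0]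
    at hinner
  rcases inner_permVec (k + 1 + 2) (by omega) hχ hχ1 with h5 | ⟨-, h5⟩
  swap
  · left; exact h5
  right
  rw [h5] at hinner
  have ht00 : t0 = 0 := by exact_mod_cast hinner
  subst ht00
  obtain ⟨f1, hθf, hψ'', hψ''1, hdich⟩ := asm_f1_dichotomy hk ψ0 hψ0 hθ hθ1 hdθ
  have hff : ff = f1 + (q ^ (k + 1) - 1) := by
    have h6 : (ff : ℂ) = ((f1 + (q ^ (k + 1) - 1) : ℕ) : ℂ) := by
      rw [← hψ1, hψθ 1, Nat.cast_zero, add_zero, hθf, Nat.cast_add, Nat.cast_sub (by omega),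
        Nat.cast_pow, Nat.cast_one]
    exact_mod_cast h6
  obtain ⟨N, hN, hdvd⟩ := asm_dvd_of_tv_integral hm hχ (by omega : 1 ≤ ff) h1 hc
  refine ⟨f1, N, ?_, hN, ?_, ?_⟩
  · rw [hk0, hff]
  · rw [hff] at hdvd
    exact hdvd
  · rcases hdich with h | ⟨t, ht⟩
    · left; exact h
    · right
      refine ⟨_, hψ'', ?_, t, ht⟩
      exact hψ''1

end core

section cases

/-- a character of `SL_3(q)` that is not trivial on the root group has degree at least `q^2 - 1` -/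
theorem asm_w3_bound (ψ0 : AddChar F ℂ) (hψ0 : ψ0 ≠ 1) {ψ'' : SpecialLinearGroup (Fin (2 + 1)) F → ℂ}
    (hψ : IsCharacter (SpecialLinearGroup (Fin (2 + 1)) F) ψ'') {f1 : ℕ} (h1 : ψ'' 1 = f1) (t : F)
    (ht : ψ'' (tauE 2 t) ≠ f1) : q ^ 2 - 1 ≤ f1 := by
  have hcf := Cfsg.Agent.Lib.Helper4.isClassFunction_of_isCharacter hψ
  obtain ⟨E, Fv, hE1, hEc, -, -⟩ := exists_ef (m := 1) (le_refl 1) ψ0 hψ0 hψ
  have ht0 : t ≠ 0 := by
    rintro rfl
    apply ht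
    rw [asm_tauE_zero, h1]
  have hq1 : 1 ≤ q ^ 2 := Nat.one_le_pow _ _ Fintype.card_pos
  have htt : ψ'' (tauE 2 t) = ψ'' (tauE 2 1) := by
    have h2 : tauE 2 t = tv (t • (e 0 : Fin (1 + 2) → F)) ((1 : F) • (e 1 : Fin (1 + 2) → F)) 1 := by
      rw [tv_smul, mul_one, mul_one]
      rfl
    rw [h2, one_smul]
    apply char_tv_eq (m := 1) (le_refl 1) hcf (smul_ne_zero ht0 (e_ne_zero 0)) (e_ne_zero 1)
    rw [dotProduct_smul, e_dot_e_ne (by decide : (1 : Fin (1 + 2)) ≠ 0), smul_zero]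
  have hE0 : E ≠ 0 := by
    rintro rfl
    apply ht
    rw [htt]
    have h3 : ψ'' (tauE 2 1) = ψ'' 1 := by
      rw [hE1]
      rw [show ψ'' (tauE (1 + 1) 1) = ψ'' (tauE 2 1) from rfl] at hEc
      rw [hEc]
      simp
    rw [h3, h1]
  have h4 : ((f1 : ℕ) : ℂ) = ((Fv + E * (q ^ 2 - 1) : ℕ) : ℂ) := by
    rw [← h1, hE1, Nat.cast_add, Nat.cast_mul, Nat.cast_sub hq1, Nat.cast_pow, Nat.cast_one]
  have h5 : f1 = Fv + E * (q ^ 2 - 1) := by exact_mod_cast h4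
  have h6 : q ^ 2 - 1 ≤ E * (q ^ 2 - 1) := Nat.le_mul_of_pos_left _ (Nat.pos_of_ne_zero hE0)
  omega

/-- the three ad hoc cases `(4,4)`, `(5,2)`, `(5,3)` -/
theorem asm_adhoc (ψ0 : AddChar F ℂ) (hψ0 : ψ0 ≠ 1) {m : ℕ} (hm : 2 ≤ m) (hex : ¬ IsExc (m + 2) q)
    (hex' : IsExc (m + 1) q) {χ : SpecialLinearGroup (Fin (m + 2)) F → ℂ}
    (hχ : IsIrrCharacter (SpecialLinearGroup (Fin (m + 2)) F) χ) (hχ1 : χ 1 ≠ 1) :
    ∃ k : ℕ, χ 1 = k ∧ bnd q (m + 2) ≤ k := by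
  rcases hex' with h | h | h | h <;> rw [Prod.mk.injEq] at h <;> obtain ⟨hm1, hq⟩ := h
  · -- (3,2): then (m+2, q) = (4,2) is exceptional
    exfalso
    apply hex
    right; right; left
    rw [Prod.mk.injEq]
    exact ⟨by omega, hq⟩
  · -- (4,4)
    obtain rfl : m = 2 := by omega
    rcases asm_adhoc_core (k := 1) (le_refl 1) ψ0 hψ0 hex hχ hχ1 with hdone | ⟨f1, N, hχf, hN, hdvd, hdich⟩
    · exact hdone
    rw [hq] at hN hdvd hχf
    have hN' : N = 5355 := by norm_num at hN; omega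
    subst hN'
    have hf1 : f1 ≤ 1 ∨ 3 ≤ f1 := by
      rcases hdich with h | ⟨ψ'', hψ'', hψ1, t, ht⟩
      · left; exact h
      · right
        obtain ⟨k, hk, hkq⟩ := sl2_even_bound (by rw [hq]; decide) hψ'' t (by rw [hψ1]; exact ht)
        rw [hq] at hkq
        have : (f1 : ℂ) = k := by rw [← hψ1, hk]
        have : f1 = k := by exact_mod_cast this
        omega
    refine ⟨_, hχf, ?_⟩
    have hb : bnd q (2 + 2) = 84 := by rw [hq]; norm_num [bnd]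
    rw [hb]
    by_contra hlt
    have hf6 : f1 < 6 := by norm_num at hlt; omega
    norm_num at hdvd
    interval_cases f1 <;> omega
  · -- (5,2)
    obtain rfl : m = 3 := by omega
    rcases asm_adhoc_core (k := 2) (by norm_num) ψ0 hψ0 hex hχ hχ1 with hdone | ⟨f1, N, hχf, hN, hdvd, hdich⟩
    · exact hdone
    have hf1 : f1 ≤ 1 ∨ q ^ 2 - 1 ≤ f1 := by
      rcases hdich with h | ⟨ψ'', hψ'', hψ1, t, ht⟩
      · left; exact h
      · right; exact asm_w3_bound ψ0 hψ0 hψ'' hψ1 t ht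
    rw [hq] at hN hdvd hχf hf1
    have hN' : N = 465 := by norm_num at hN; omega
    subst hN'
    refine ⟨_, hχf, ?_⟩
    have hb : bnd q (3 + 2) = 30 := by rw [hq]; norm_num [bnd]
    rw [hb]
    by_contra hlt
    have hf6 : f1 < 8 := by norm_num at hlt; omega
    norm_num at hdvd hf1
    interval_cases f1 <;> omega
  · -- (5,3)
    obtain rfl : m = 3 := by omega
    rcases asm_adhoc_core (k := 2) (by norm_num) ψ0 hψ0 hex hχ hχ1 with hdone | ⟨f1, N, hχf, hN, hdvd, hdich⟩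
    · exact hdone
    have hf1 : f1 ≤ 1 ∨ q ^ 2 - 1 ≤ f1 := by
      rcases hdich with h | ⟨ψ'', hψ'', hψ1, t, ht⟩
      · left; exact h
      · right; exact asm_w3_bound ψ0 hψ0 hψ'' hψ1 t ht
    rw [hq] at hN hdvd hχf hf1
    have hN' : N = 9680 := by norm_num at hN; omega
    subst hN'
    refine ⟨_, hχf, ?_⟩
    have hb : bnd q (3 + 2) = 120 := by rw [hq]; norm_num [bnd]
    rw [hb]
    by_contra hlt
    have hf6 : f1 < 14 := by norm_num at hlt; omega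
    norm_num at hdvd hf1
    interval_cases f1 <;> omega

end cases

end Cfsg.Agent.Lib.Helper4.SLMin
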