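import Mathlib
import Cfsg.Prelude.Def_Characters
import Cfsg.Agent.Lib.Helper4.SLMin.AdHoc
import Cfsg.Agent.Lib.Helper1.CharInt
import Cfsg.Agent.Lib.Helper1.SLMin_N
import Cfsg.Agent.Lib.Helper1.SLMin_T

set_option autoImplicit false

/-!
# S2332: the induction
-/

namespace Cfsg.Agent.Lib.Helper4.SLMin

open Matrix Cfsg Cfsg.Agent.H9SLRoot Cfsg.Agent.Lib.Helper1.SUMin
open scoped ComplexConjugate

universe u

variable {F : Type u} [Field F] [Fintype F] [DecidableEq F]

local notation "q" => Fintype.card F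

theorem asm_bnd_one (Q : ℕ) : bnd Q 1 = 0 := by
  unfold bnd
  rw [pow_one, Nat.sub_self, Nat.zero_div]

theorem asm_bnd_three {Q : ℕ} (hQ : 2 ≤ Q) : bnd Q 3 = Q + Q ^ 2 := by
  rw [bnd_succ hQ (by norm_num : 1 ≤ 2), bnd_succ hQ (le_refl 1), asm_bnd_one, zero_add, pow_one]

theorem main_aux (ψ0 : AddChar F ℂ) (hψ0 : ψ0 ≠ 1) (m : ℕ) : 1 ≤ m → ¬ IsExc (m + 2) q →
    ∀ χ : SpecialLinearGroup (Fin (m + 2)) F → ℂ,
      IsIrrCharacter (SpecialLinearGroup (Fin (m + 2)) F) χ → χ 1 ≠ 1 →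
      ∃ k : ℕ, χ 1 = k ∧ bnd q (m + 2) ≤ k := by
  induction m using Nat.strong_induction_on with
  | _ m ih =>
  intro hm hex χ hχ hχ1
  have hχc := Cfsg.Agent.Lib.Helper4.isCharacter_of_irr hχ
  obtain ⟨ee, ff, h1, hc, hf0, hfe⟩ := exists_ef hm ψ0 hψ0 hχc
  have hq2 := asm_two_le_q (F := F)
  have hq0 : (q : ℂ) ≠ 0 := Nat.cast_ne_zero.2 Fintype.card_ne_zero
  have hq1 : 1 ≤ q ^ (m + 1) := Nat.one_le_pow _ _ Fintype.card_pos
  have hee : ee ≠ 0 := by
    rintro rfl
    apply tv_not_in_kernel hm hχ hχ1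
    rw [hc, h1]
    simp
  have hk : χ 1 = ((ff + ee * (q ^ (m + 1) - 1) : ℕ) : ℂ) := by
    rw [h1, Nat.cast_add, Nat.cast_mul, Nat.cast_sub hq1, Nat.cast_pow, Nat.cast_one]
  by_cases he2 : 2 ≤ ee
  · refine ⟨_, hk, ?_⟩
    have h3 := bnd_le_two_mul hq2 (n := m + 1) (by omega)
    calc bnd q (m + 2) ≤ 2 * (q ^ (m + 1) - 1) := h3
      _ ≤ ee * (q ^ (m + 1) - 1) := Nat.mul_le_mul_right _ he2
      _ ≤ ff + ee * (q ^ (m + 1) - 1) := Nat.le_add_left _ _
  have he1 : ee = 1 := by omega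
  subst he1
  rw [Nat.cast_one, one_mul] at h1
  rw [Nat.cast_one] at hc
  rw [one_mul] at hk
  have he : χ 1 - χ (tauE (m + 1) 1) = (q : ℂ) ^ (m + 1) := by rw [h1, hc]; ring
  set ψ : SpecialLinearGroup (Fin (m + 1)) F → ℂ :=
    fun h => isoAvg qrow (lamU ψ0 (0 : Fin (m + 1) → F)) χ (emb (m + 1) h) with hψdef
  have hψ : IsCharacter (SpecialLinearGroup (Fin (m + 1)) F) ψ := psi_isCharacter ψ0 hχc
  have hψ1 : ψ 1 = ff := by
    simp only [hψdef, map_one]
    exact hf0
  have hψt : ∀ t : F, t ≠ 0 → ψ (tauE m t) = (ff : ℂ) - (q : ℂ) ^ m := by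
    intro t ht
    show isoAvg qrow (lamU ψ0 (0 : Fin (m + 1) → F)) χ (emb (m + 1) (tauE m t)) = _
    rw [key hm hex ψ0 hψ0 hχc he t ht, hc]
    ring
  rcases Nat.lt_or_ge m 2 with hm2 | hm2
  · -- the base case `n = 3`
    obtain rfl : m = 1 := by omega
    obtain ⟨k, hkk⟩ := avg_root_nat hψ
    have hsum : ∑ t : F, ψ (tauE 1 t) = ff + ((q : ℂ) - 1) * (ff - q) := by
      rw [← Finset.add_sum_erase _ _ (Finset.mem_univ (0 : F)), asm_tauE_zero, hψ1,
        Finset.sum_congr rfl (fun t ht => hψt t (Finset.ne_of_mem_erase ht)), Finset.sum_const,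
        Finset.card_erase_of_mem (Finset.mem_univ _), Finset.card_univ, nsmul_eq_mul,
        Nat.cast_sub Fintype.card_pos, Nat.cast_one, pow_one]
    have hffk : ff = k + (q - 1) := by
      have h4 : (ff : ℂ) = k + ((q : ℂ) - 1) := by
        rw [hsum] at hkk
        have h5 : (ff : ℂ) + ((q : ℂ) - 1) * (ff - q) = (q : ℂ) * k := by
          rw [← hkk]
          field_simp
        have h6 : (q : ℂ) * (ff - (k + ((q : ℂ) - 1))) = 0 := by linear_combination h5
        rcases mul_eq_zero.1 h6 with h7 | h7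
        · exact absurd h7 hq0
        · linear_combination h7
      have h8 : ((ff : ℕ) : ℂ) = ((k + (q - 1) : ℕ) : ℂ) := by
        rw [h4, Nat.cast_add, Nat.cast_sub Fintype.card_pos, Nat.cast_one]
      exact_mod_cast h8
    have hff1 : 1 ≤ ff := by omega
    obtain ⟨N, hN, hdvd⟩ := asm_dvd_of_tv_integral hm hχ hff1 h1 hc
    have hprime : IsPrimePow q := FiniteField.isPrimePow_card F
    rcases Nat.lt_or_ge k 2 with hk2 | hk2
    · exfalso
      interval_cases k
      · -- `f = q - 1`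
        rw [zero_add] at hffk
        subst hffk
        have h9 : q - 1 - 1 = q - 2 := by omega
        rw [h9] at hdvd
        rcases arith_three_a hprime hN hdvd with h | h
        · exact hex (Or.inl (by rw [h]))
        · exact hex (Or.inr (Or.inl (by rw [h])))
      · -- `f = q`
        have h9 : ff = q := by omega
        subst h9
        exact arith_three_b hq2 hN hdvd
    · refine ⟨_, hk, ?_⟩
      rw [asm_bnd_three hq2]
      have h10 : q + 1 ≤ ff := by omega
      have h11 : q ≤ q ^ 2 := by nlinarith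
      have h12 : q ^ (1 + 1) = q ^ 2 := rfl
      have h13 : 1 ≤ q ^ 2 := Nat.one_le_pow _ _ Fintype.card_pos
      omega
  · by_cases hexc : IsExc (m + 1) q
    · exact asm_adhoc ψ0 hψ0 hm2 hex hexc hχ hχ1
    · obtain ⟨m', rfl⟩ : ∃ m', m = m' + 1 := ⟨m - 1, by omega⟩
      have hne : ψ (tauE (m' + 1) 1) ≠ ψ 1 := by
        rw [hψt 1 one_ne_zero, hψ1]
        intro h
        have h12 : (q : ℂ) ^ (m' + 1) = 0 := by linear_combination -h
        exact pow_ne_zero _ hq0 h12
      obtain ⟨θ, hθ, hθne, k, l, hkθ, hl, hkl⟩ := exists_constituent_ne hψ (tauE (m' + 1) 1) hne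
      have hθ1 : θ 1 ≠ 1 := fun h => hθne (by rw [linear_tv (m := m') (by omega) hθ h, h])
      obtain ⟨k', hk', hb⟩ := ih m' (by omega) (by omega) hexc θ hθ hθ1
      have hkk' : k = k' := by
        have : (k : ℂ) = k' := by rw [← hkθ, hk']
        exact_mod_cast this
      have hlf : l = ff := by
        have : (l : ℂ) = ff := by rw [← hl, hψ1]
        exact_mod_cast this
      have hfb : bnd q (m' + 2) ≤ ff := by omega
      have hb1 : 1 ≤ bnd q (m' + 2) := by
        rw [bnd_succ hq2 (by omega : 1 ≤ m' + 1)]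
        have : 1 ≤ q ^ (m' + 1) := Nat.one_le_pow _ _ Fintype.card_pos
        omega
      rcases Nat.eq_or_lt_of_le hfb with heq | hlt
      · exfalso
        obtain ⟨N, hN, hdvd⟩ := asm_dvd_of_tv_integral hm hχ (by omega) h1 hc
        exact arith_general hq2 hm2 hN heq.symm hdvd
      · refine ⟨_, hk, ?_⟩
        rw [bnd_succ hq2 (by omega : 1 ≤ m' + 1 + 1)]
        have h14 : bnd q (m' + 1 + 1) = bnd q (m' + 2) := rfl
        omega

end Cfsg.Agent.Lib.Helper4.SLMin
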